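import Cfsg.Agent.Lib.PcMult.Co0.Data5

/-!
Checks of the certificate for the prime 5.
-/

set_option autoImplicit false
set_option maxRecDepth 100000

namespace Cfsg.Agent.Lib.PcMult.Co0.P5

open Cfsg Cfsg.Agent.Lib.PcMult

theorem cert : C.check (vecOps 5) = true := by decide +kernel

theorem e0 : D.elemOk 0 = true := by decide +kernel

theorem e1 : D.elemOk 1 = true := by decide +kernel

theorem e2 : D.elemOk 2 = true := by decide +kernel

theorem e3 : D.elemOk 3 = true := by decide +kernel

theorem e4 : D.elemOk 4 = true := by decide +kernel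

theorem e5 : D.elemOk 5 = true := by decide +kernel

theorem e6 : D.elemOk 6 = true := by decide +kernel

theorem r0 : D.rulesAt 0 = true := by decide +kernel

theorem r1 : D.rulesAt 1 = true := by decide +kernel

theorem r2 : D.rulesAt 2 = true := by decide +kernel

theorem r3 : D.rulesAt 3 = true := by decide +kernel

theorem f0 : D.fusAt 0 = true := by decide +kernel

theorem f1 : D.fusAt 1 = true := by decide +kernel

theorem f2 : D.fusAt 2 = true := by decide +kernel

theorem news : D.checkNew = true := by decide +kernel

theorem below : C.fus.all (fun qp => qp.1.all fun ab => (ab.1 ++ ab.2).all fun k => decide (k < C.R.n)) = true := by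
  decide +kernel

theorem elems : D.checkElems = true := by
  have h : (List.range 7).all D.elemOk = true :=
    (Leech.Data.allUpTo_succ (Leech.Data.allUpTo_succ (Leech.Data.allUpTo_succ (Leech.Data.allUpTo_succ (Leech.Data.allUpTo_succ (Leech.Data.allUpTo_succ (Leech.Data.allUpTo_succ (rfl : (List.range 0).all D.elemOk = true) e0) e1) e2) e3) e4) e5) e6)
  simp only [Leech.Data.checkElems, Bool.and_eq_true, beq_iff_eq]
  exact ⟨⟨by decide +kernel, by decide +kernel⟩, h⟩

theorem rules : D.checkRules = true :=
  (congrArg (fun m => (List.range m).all D.rulesAt) (show D.C.R.n = 4 from rfl)).trans (Leech.Data.allUpTo_succ (Leech.Data.allUpTo_succ (Leech.Data.allUpTo_succ (Leech.Data.allUpTo_succ (rfl : (List.range 0).all D.rulesAt = true) r0) r1) r2) r3)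

theorem fus : D.checkFus = true :=
  (congrArg (fun m => (List.range m).all D.fusAt) (show D.C.fus.length = 3 from rfl)).trans (Leech.Data.allUpTo_succ (Leech.Data.allUpTo_succ (Leech.Data.allUpTo_succ (rfl : (List.range 0).all D.fusAt = true) f0) f1) f2)

end Cfsg.Agent.Lib.PcMult.Co0.P5
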