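import Cfsg.Agent.Lib.PcMult.Co0.Checks2
import Cfsg.Agent.Lib.PcMult.Co0.Checks3
import Cfsg.Agent.Lib.PcMult.Co0.Checks5
import Cfsg.Agent.Lib.PcMult.Co0.Checks7
import Cfsg.Agent.Lib.LeechAut.Co1

/-!
The automorphism group of the Leech lattice has trivial multiplier.
-/

set_option autoImplicit false

namespace Cfsg.Agent.Lib.PcMult.Co0

open Cfsg Cfsg.Agent.Lib.PcMult
open scoped commutatorElement

theorem split_co0 {D : Leech.Data} {F : Type} {O : Ops F} {p : ℕ} [Fact p.Prime] (hp : D.C.R.p = p)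
    (hO : ∀ (K : Type) [CommGroup K], (∀ z : K, z ^ D.C.R.p = 1) → ∀ τ : ℕ → K, ∃ ev, O.Valid D.C.R.p τ ev)
    (hC : D.C.check O = true) (hE : D.checkElems = true) (hR : D.checkRules = true) (hF : D.checkFus = true)
    (hN : D.checkNew = true)
    (hB : D.C.fus.all (fun qp => qp.1.all fun ab => (ab.1 ++ ab.2).all fun k => decide (k < D.C.R.n)) = true)
    [Finite Cfsg.Co0] {m : ℕ} (hm : 8315553613086720000 = p ^ D.C.R.n * m) (hmp : ¬ p ∣ m)
    (Γ : Type) [Group Γ] [Finite Γ] (σ : Γ →* Cfsg.Co0) (hc : σ.ker ≤ Subgroup.center Γ)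
    (hσ : Function.Surjective σ) (hex : ∀ z, σ z = 1 → z ^ p = 1) (P : Sylow p Γ) :
    ⁅(P : Subgroup Γ), (P : Subgroup Γ)⁆ ⊓ σ.ker = ⊥ := by
  have hpp : p.Prime := Fact.out
  have hN' : (Nat.card Cfsg.Co0).factorization p = D.C.R.n := by
    have hm0 : m ≠ 0 := by rintro rfl; simp at hm
    rw [LeechAut.Cross.card_Co0, hm, Nat.factorization_mul (pow_ne_zero _ hpp.ne_zero) hm0, Finsupp.add_apply,
      Nat.Prime.factorization_pow hpp, Nat.factorization_eq_zero_of_not_dvd hmp, Finsupp.single_eq_same, add_zero]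
  subst hp
  exact split hpp hc hσ hex hO hC (Leech.Data.real hE hR hF hN hB) hN' rfl P

theorem trivial_multiplier : Cfsg.HasCyclicSchurMultiplier ↥Cfsg.Co0 1 := by
  haveI : Finite Cfsg.Co0 := Nat.finite_of_card_ne_zero (by rw [LeechAut.Cross.card_Co0]; norm_num)
  refine trivial_of_exp fun p hp hdvd Γ _ _ σ hc hσ hex P => ?_
  rw [LeechAut.Cross.card_Co0] at hdvd
  rcases eq_or_ne p 2 with rfl | h2
  · exact split_co0 (D := P2.D) (p := 2) rfl (fun K _ h τ => ⟨_, bitOps_valid h τ⟩) P2.cert P2.elems P2.rules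
      P2.fus P2.news P2.below (m := 1982582476875) (by norm_num [show P2.D.C.R.n = 22 from rfl])
      (by norm_num) Γ σ hc hσ hex P
  rcases eq_or_ne p 3 with rfl | h3
  · exact split_co0 (D := P3.D) (p := 3) rfl (fun K _ h τ => ⟨_, vecOps_valid h τ⟩) P3.cert P3.elems P3.rules
      P3.fus P3.news P3.below (m := 422473891840000) (by norm_num [show P3.D.C.R.n = 9 from rfl])
      (by norm_num) Γ σ hc hσ hex P
  rcases eq_or_ne p 5 with rfl | h5
  · exact split_co0 (D := P5.D) (p := 5) rfl (fun K _ h τ => ⟨_, vecOps_valid h τ⟩) P5.cert P5.elems P5.rules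
      P5.fus P5.news P5.below (m := 13304885780938752) (by norm_num [show P5.D.C.R.n = 4 from rfl])
      (by norm_num) Γ σ hc hσ hex P
  rcases eq_or_ne p 7 with rfl | h7
  · exact split_co0 (D := P7.D) (p := 7) rfl (fun K _ h τ => ⟨_, vecOps_valid h τ⟩) P7.cert P7.elems P7.rules
      P7.fus P7.news P7.below (m := 169705175777280000) (by norm_num [show P7.D.C.R.n = 2 from rfl])
      (by norm_num) Γ σ hc hσ hex P
  exfalso
  have hpp := hp.out
  rw [show (8315553613086720000 : ℕ) = 2 ^ 22 * 3 ^ 9 * 5 ^ 4 * 7 ^ 2 * (11 * 13 * 23) by norm_num] at hdvd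
  have co : ∀ {q k : ℕ}, q.Prime → p ≠ q → Nat.Coprime (p ^ 2) (q ^ k) := fun hq hne =>
    Nat.Coprime.pow _ _ ((Nat.coprime_primes hpp hq).2 hne)
  have h : p ^ 2 ∣ 11 * 13 * 23 :=
    ((((co Nat.prime_two h2).mul_right (co Nat.prime_three h3)).mul_right (co (by norm_num) h5)).mul_right
      (co (by norm_num) h7)).dvd_of_dvd_mul_left hdvd
  have hle : p ^ 2 ≤ 11 * 13 * 23 := Nat.le_of_dvd (by norm_num) h
  have : p ≤ 60 := by nlinarith
  interval_cases p <;> first
    | omega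
    | (norm_num at h; done)
    | (norm_num at hpp; done)

end Cfsg.Agent.Lib.PcMult.Co0
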